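import Mathlib
import Cfsg.Prelude.Def_GeometricClasses
import Cfsg.Agent.Lib.Lead.ASCU.Defs

/-!
# Project U3 (leader: helper16) : S5778, maximal subgroups of `SU_3(q)`, `q ≥ 3`.  Shared vocabulary.
-/

set_option autoImplicit false

namespace Cfsg.Agent.Lib.Helper16.U3

open Cfsg Cfsg.Geo Cfsg.Agent.Lib.Lead.ASCU
open scoped MatrixGroups Matrix

variable {F : Type*} [Field F]

/-- the standard frame `F e₀, F e₁, F e₂` -/
def stdFrame (F : Type*) [Field F] : Fin 3 → Submodule F (Fin 3 → F) :=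
  fun i => Submodule.span F {Pi.single i (1 : F)}

/-- `diag(1, ω, ω²)` -/
def heisX (ω : F) : Matrix (Fin 3) (Fin 3) F := Matrix.diagonal ![1, ω, ω ^ 2]

/-- the cyclic permutation matrix `e₀ ↦ e₁ ↦ e₂ ↦ e₀` -/
def heisY (F : Type*) [Field F] : Matrix (Fin 3) (Fin 3) F := !![0, 0, 1; 1, 0, 0; 0, 1, 0]

/-- the standard Heisenberg group `3^(1+2)` generated by `diag(1, ω, ω²)` and the cyclic permutation matrix -/
def stdHeis (ω : F) : Subgroup (GL (Fin 3) F) :=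
  Subgroup.closure {g : GL (Fin 3) F | (g : Matrix (Fin 3) (Fin 3) F) = heisX ω ∨
    (g : Matrix (Fin 3) (Fin 3) F) = heisY F}

/-- `X` is conjugate to `X₀` by `B` -/
def ConjTo (B : GL (Fin 3) F) (X X₀ : Subgroup (GL (Fin 3) F)) : Prop :=
  ∀ g : GL (Fin 3) F, g ∈ X ↔ B⁻¹ * g * B ∈ X₀

end Cfsg.Agent.Lib.Helper16.U3
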