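import Mathlib
import Cfsg.Prelude.Def_GeometricClasses
import Cfsg.Agent.Lib.Lead.ASCU.Defs
import Cfsg.Agent.Lib.Helper16.UnitaryFixed

/-!
# Project U3 : the concrete layer.  `F_(p²) = F_p(θ)`, `θ² = 2` (`p = 3, 5`), elements coded as `a + p b` (`a + b θ`).
Code vectors / matrices (by columns), decoding lemmas, membership in `GU`/`SU` by codes,
stabilisers of a union of lines given by representatives and a bit mask.
-/

set_option autoImplicit false
set_option linter.unusedVariables false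

namespace Cfsg.Agent.Lib.Helper16.U3

open Cfsg Cfsg.Geo Cfsg.Agent.Lib.Lead.ASCU
open scoped MatrixGroups Matrix

/-! ## codes of field elements -/

/-- addition of codes (raw `Nat` functions: fast in the kernel) -/
def cadd (p x y : ℕ) : ℕ :=
  Nat.add (Nat.mod (Nat.add (Nat.mod x p) (Nat.mod y p)) p)
    (Nat.mul p (Nat.mod (Nat.add (Nat.div x p) (Nat.div y p)) p))

theorem cadd_def (p x y : ℕ) : cadd p x y = (x % p + y % p) % p + p * ((x / p + y / p) % p) := rfl

/-- multiplication of codes (`θ² = 2`) -/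
def cmul (p x y : ℕ) : ℕ :=
  Nat.add (Nat.mod (Nat.add (Nat.mul (Nat.mod x p) (Nat.mod y p)) (Nat.mul 2 (Nat.mul (Nat.div x p) (Nat.div y p)))) p)
    (Nat.mul p (Nat.mod (Nat.add (Nat.mul (Nat.mod x p) (Nat.div y p)) (Nat.mul (Nat.div x p) (Nat.mod y p))) p))

theorem cmul_def (p x y : ℕ) : cmul p x y =
    ((x % p) * (y % p) + 2 * ((x / p) * (y / p))) % p + p * (((x % p) * (y / p) + (x / p) * (y % p)) % p) := rfl

/-- conjugation `a + b θ ↦ a - b θ` of codes -/
def cconj (p x : ℕ) : ℕ :=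
  Nat.add (Nat.mod x p) (Nat.mul p (Nat.mod (Nat.sub p (Nat.mod (Nat.div x p) p)) p))

theorem cconj_def (p x : ℕ) : cconj p x = x % p + p * ((p - (x / p) % p) % p) := rfl

/-- negation of codes -/
def cneg (p x : ℕ) : ℕ :=
  Nat.add (Nat.mod (Nat.sub p (Nat.mod x p)) p) (Nat.mul p (Nat.mod (Nat.sub p (Nat.mod (Nat.div x p) p)) p))

theorem cneg_def (p x : ℕ) : cneg p x = (p - x % p) % p + p * ((p - (x / p) % p) % p) := rfl

variable {F : Type*} [Field F]

/-- decoding -/
def dec (p : ℕ) (θ : F) (k : ℕ) : F := ((k % p : ℕ) : F) + ((k / p : ℕ) : F) * θ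

theorem u3code_cast_mod {p : ℕ} (hp : (p : F) = 0) (a : ℕ) : ((a % p : ℕ) : F) = (a : F) := by
  conv_rhs => rw [← Nat.div_add_mod a p]
  rw [Nat.cast_add, Nat.cast_mul, hp, zero_mul, zero_add]

theorem u3code_lt {p : ℕ} (hp0 : 0 < p) (a b : ℕ) : a % p + p * (b % p) < p * p := by
  have h1 : a % p < p := Nat.mod_lt _ hp0
  have h2 : b % p < p := Nat.mod_lt _ hp0
  have h3 : b % p + 1 ≤ p := h2
  calc a % p + p * (b % p) < p + p * (b % p) := by omega
    _ = p * (b % p + 1) := by ring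
    _ ≤ p * p := Nat.mul_le_mul_left p h3

theorem cadd_lt {p : ℕ} (hp0 : 0 < p) (x y : ℕ) : cadd p x y < p * p := by rw [cadd_def]; exact u3code_lt hp0 _ _
theorem cmul_lt {p : ℕ} (hp0 : 0 < p) (x y : ℕ) : cmul p x y < p * p := by rw [cmul_def]; exact u3code_lt hp0 _ _
theorem cconj_lt {p : ℕ} (hp0 : 0 < p) (x : ℕ) : cconj p x < p * p := by rw [cconj_def]; exact u3code_lt hp0 _ _
theorem cneg_lt {p : ℕ} (hp0 : 0 < p) (x : ℕ) : cneg p x < p * p := by rw [cneg_def]; exact u3code_lt hp0 _ _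

theorem u3code_div {p : ℕ} (hp0 : 0 < p) (a b : ℕ) : (a % p + p * (b % p)) / p = b % p := by
  rw [Nat.add_mul_div_left _ _ hp0, Nat.div_eq_of_lt (Nat.mod_lt _ hp0), zero_add]

theorem u3code_mod {p : ℕ} (hp0 : 0 < p) (a b : ℕ) : (a % p + p * (b % p)) % p = a % p := by
  rw [Nat.add_mul_mod_self_left, Nat.mod_mod]

theorem dec_mk {p : ℕ} (hp0 : 0 < p) (hp : (p : F) = 0) (θ : F) (a b : ℕ) :
    dec p θ (a % p + p * (b % p)) = (a : F) + (b : F) * θ := by
  unfold dec
  rw [u3code_div hp0, u3code_mod hp0, u3code_cast_mod hp, u3code_cast_mod hp]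

theorem dec_cadd {p : ℕ} (hp0 : 0 < p) (hp : (p : F) = 0) (θ : F) (x y : ℕ) :
    dec p θ (cadd p x y) = dec p θ x + dec p θ y := by
  rw [cadd_def, dec_mk hp0 hp]
  unfold dec
  push_cast
  ring

theorem dec_cmul {p : ℕ} (hp0 : 0 < p) (hp : (p : F) = 0) (θ : F) (hθ : θ ^ 2 = 2) (x y : ℕ) :
    dec p θ (cmul p x y) = dec p θ x * dec p θ y := by
  rw [cmul_def, dec_mk hp0 hp]
  unfold dec
  push_cast
  have : ∀ a b c d : F, (a + b * θ) * (c + d * θ) = a * c + 2 * (b * d) + (a * d + b * c) * θ := by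
    intro a b c d
    have h : (a + b * θ) * (c + d * θ) = a * c + (b * d) * θ ^ 2 + (a * d + b * c) * θ := by ring
    rw [h, hθ]; ring
  rw [this]

theorem u3code_cast_sub {p : ℕ} (hp0 : 0 < p) (hp : (p : F) = 0) (a : ℕ) :
    (((p - a % p) % p : ℕ) : F) = -(a : F) := by
  rw [u3code_cast_mod hp, Nat.cast_sub (Nat.mod_lt _ hp0).le, hp, zero_sub, u3code_cast_mod hp]

theorem dec_cneg {p : ℕ} (hp0 : 0 < p) (hp : (p : F) = 0) (θ : F) (x : ℕ) :
    dec p θ (cneg p x) = -dec p θ x := by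
  rw [cneg_def, dec_mk hp0 hp, Nat.cast_sub (Nat.mod_lt _ hp0).le, Nat.cast_sub (Nat.mod_lt _ hp0).le, hp]
  unfold dec
  rw [u3code_cast_mod hp (x / p)]
  ring

theorem dec_cconj {p : ℕ} (hp0 : 0 < p) (hp : (p : F) = 0) (θ : F) (x : ℕ) :
    dec p θ (cconj p x) = ((x % p : ℕ) : F) - ((x / p : ℕ) : F) * θ := by
  rw [cconj_def, dec_mk hp0 hp, Nat.cast_sub (Nat.mod_lt _ hp0).le, hp, u3code_cast_mod hp (x / p), u3code_cast_mod hp x]
  ring

theorem dec_zero (p : ℕ) (θ : F) : dec p θ 0 = 0 := by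
  unfold dec; simp

theorem dec_one {p : ℕ} (hp1 : 1 < p) (θ : F) : dec p θ 1 = 1 := by
  unfold dec
  rw [Nat.mod_eq_of_lt hp1, Nat.div_eq_of_lt hp1]
  simp

/-! ## the model -/

/-- a model of `F` as `F_p(θ)`, `θ² = 2` -/
structure Model (F : Type*) [Field F] (p : ℕ) where
  θ : F
  hpp : p.Prime
  hchar : CharP F p
  hp1 : 1 < p
  hp : (p : F) = 0
  hθ : θ ^ 2 = 2
  hfrob : ∀ k : ℕ, (dec p θ k) ^ p = dec p θ (cconj p k)
  surj : ∀ a : F, ∃ k, k < p * p ∧ dec p θ k = a
  inj : ∀ k k', k < p * p → k' < p * p → dec p θ k = dec p θ k' → k = k'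

namespace Model

variable {p : ℕ}

theorem hp0 (M : Model F p) : 0 < p := lt_trans Nat.zero_lt_one M.hp1

/-- decoding in the model -/
def d (M : Model F p) (k : ℕ) : F := dec p M.θ k

theorem d_cadd (M : Model F p) (x y : ℕ) : M.d (cadd p x y) = M.d x + M.d y := dec_cadd M.hp0 M.hp M.θ x y
theorem d_cmul (M : Model F p) (x y : ℕ) : M.d (cmul p x y) = M.d x * M.d y := dec_cmul M.hp0 M.hp M.θ M.hθ x y
theorem d_cneg (M : Model F p) (x : ℕ) : M.d (cneg p x) = -M.d x := dec_cneg M.hp0 M.hp M.θ x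
theorem d_cconj (M : Model F p) (x : ℕ) : M.d (cconj p x) = (M.d x) ^ p := (M.hfrob x).symm
theorem d_zero (M : Model F p) : M.d 0 = 0 := dec_zero p M.θ
theorem d_one (M : Model F p) : M.d 1 = 1 := dec_one M.hp1 M.θ

theorem d_eq_zero (M : Model F p) {k : ℕ} (hk : k < p * p) : M.d k = 0 ↔ k = 0 := by
  constructor
  · intro h
    exact M.inj k 0 hk (Nat.mul_pos M.hp0 M.hp0) (h.trans M.d_zero.symm)
  · rintro rfl; exact M.d_zero

theorem d_eq_one (M : Model F p) {k : ℕ} (hk : k < p * p) : M.d k = 1 ↔ k = 1 := by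
  constructor
  · intro h
    exact M.inj k 1 hk (by nlinarith [M.hp1]) (h.trans M.d_one.symm)
  · rintro rfl; exact M.d_one

end Model

theorem u3code_two_ne_sq3 : ∀ m : ℕ, m < 3 → ¬ (3 ∣ m * m + 1) := by decide
theorem u3code_two_ne_sq5 : ∀ m : ℕ, m < 5 → ¬ (5 ∣ m * m + 3) := by decide

/-- existence of a model from the cardinality (`p = 3` or `5`) -/
theorem exists_model [Fintype F] (p : ℕ) (hp35 : p = 3 ∨ p = 5) (hF : Fintype.card F = p ^ 2) :
    Nonempty (Model F p) := by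
  classical
  have hpp : p.Prime := by rcases hp35 with rfl | rfl <;> norm_num
  have hp1 : 1 < p := hpp.one_lt
  have hp0 : 0 < p := hpp.pos
  -- characteristic
  obtain ⟨p', hchar⟩ := CharP.exists F
  have hp'prime : p'.Prime := CharP.char_is_prime F p'
  obtain ⟨n, -, hn⟩ := FiniteField.card F p'
  have hpp' : p' = p := by
    have h1 : p' ∣ p ^ 2 := by rw [← hF, hn]; exact dvd_pow_self _ n.ne_zero
    exact (Nat.prime_dvd_prime_iff_eq hp'prime hpp).mp (hp'prime.dvd_of_dvd_pow h1)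
  rw [hpp'] at hchar
  clear hpp' hn hp'prime
  have hp : (p : F) = 0 := CharP.cast_eq_zero F p
  -- a square root of 2
  have h2sq : IsSquare (2 : F) := by
    have h2ne : (2 : F) ≠ 0 := by
      intro h
      have : (p : ℕ) ∣ 2 := (CharP.cast_eq_zero_iff F p 2).mp (by exact_mod_cast h)
      rcases hp35 with rfl | rfl <;> omega
    have hodd : ringChar F ≠ 2 := by
      rw [ringChar.eq F p]
      rcases hp35 with rfl | rfl <;> omega
    rw [FiniteField.isSquare_iff hodd h2ne, hF]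
    -- 2 ^ ((p^2)/2) = 1
    have hfermat : (2 : F) ^ (p - 1) = 1 := by
      haveI : Fact p.Prime := ⟨hpp⟩
      have h2z : (2 : ZMod p) ≠ 0 := by
        intro h
        have : (p : ℕ) ∣ 2 := (ZMod.natCast_eq_zero_iff 2 p).mp (by exact_mod_cast h)
        rcases hp35 with rfl | rfl <;> omega
      have h := ZMod.pow_card_sub_one_eq_one h2z
      have := congrArg (ZMod.castHom (dvd_refl p) F) h
      rw [map_pow, map_one, map_ofNat] at this
      exact this
    rcases hp35 with rfl | rfl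
    · -- 2^4 = 1
      have : (2 : F) ^ (3 ^ 2 / 2) = ((2 : F) ^ (3 - 1)) ^ 2 := by norm_num [← pow_mul]
      rw [this, hfermat, one_pow]
    · have : (2 : F) ^ (5 ^ 2 / 2) = ((2 : F) ^ (5 - 1)) ^ 3 := by norm_num [← pow_mul]
      rw [this, hfermat, one_pow]
  obtain ⟨θ, hθ'⟩ := h2sq
  have hθ : θ ^ 2 = 2 := by rw [pow_two, ← hθ']
  -- θ is not in the prime field
  have hnot : ∀ m : ℕ, (m : F) ≠ θ := by
    intro m hm
    have h1 : ((m % p : ℕ) : F) = θ := by rw [u3code_cast_mod hp, hm]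
    have h2 : (((m % p) * (m % p) : ℕ) : F) = 2 := by
      rw [Nat.cast_mul, h1, ← pow_two, hθ]
    have hlt : m % p < p := Nat.mod_lt _ hp0
    rcases hp35 with rfl | rfl
    · have h3 : (((m % 3) * (m % 3) + 1 : ℕ) : F) = 0 := by
        rw [Nat.cast_add, h2]
        have : ((3 : ℕ) : F) = 0 := hp
        push_cast at this ⊢
        linear_combination this
      exact u3code_two_ne_sq3 _ hlt ((CharP.cast_eq_zero_iff F 3 _).mp h3)
    · have h3 : (((m % 5) * (m % 5) + 3 : ℕ) : F) = 0 := by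
        rw [Nat.cast_add, h2]
        have : ((5 : ℕ) : F) = 0 := hp
        push_cast at this ⊢
        linear_combination this
      exact u3code_two_ne_sq5 _ hlt ((CharP.cast_eq_zero_iff F 5 _).mp h3)
  -- injectivity
  have hcast_inj : ∀ a b : ℕ, a < p → b < p → (a : F) = (b : F) → a = b := by
    intro a b ha hb hab
    have := (CharP.natCast_eq_natCast F p).mp hab
    exact Nat.ModEq.eq_of_lt_of_lt this ha hb
  have hinj : ∀ k k', k < p * p → k' < p * p → dec p θ k = dec p θ k' → k = k' := by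
    intro k k' hk hk' h
    unfold dec at h
    have hk1 : k / p < p := Nat.div_lt_of_lt_mul hk
    have hk1' : k' / p < p := Nat.div_lt_of_lt_mul hk'
    have hb : k / p = k' / p := by
      by_contra hne
      -- θ = (a' - a)/(b - b') is in the prime field
      have hne' : ((k / p : ℕ) : F) - ((k' / p : ℕ) : F) ≠ 0 := by
        intro h0
        exact hne (hcast_inj _ _ hk1 hk1' (sub_eq_zero.mp h0))
      have hθeq : θ = (((k' % p : ℕ) : F) - ((k % p : ℕ) : F)) / (((k / p : ℕ) : F) - ((k' / p : ℕ) : F)) := by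
        rw [eq_div_iff hne']
        linear_combination h
      -- the prime field is closed under these operations: use ZMod
      haveI : Fact p.Prime := ⟨hpp⟩
      let φ : ZMod p →+* F := ZMod.castHom (dvd_refl p) F
      have hφ : ∀ m : ℕ, φ (m : ZMod p) = (m : F) := fun m => map_natCast φ m
      have : θ = φ ((((k' % p : ℕ) : ZMod p) - ((k % p : ℕ) : ZMod p)) /
          (((k / p : ℕ) : ZMod p) - ((k' / p : ℕ) : ZMod p))) := by
        rw [map_div₀, map_sub, map_sub, hφ, hφ, hφ, hφ]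
        exact hθeq
      set z := ((((k' % p : ℕ) : ZMod p) - ((k % p : ℕ) : ZMod p)) /
          (((k / p : ℕ) : ZMod p) - ((k' / p : ℕ) : ZMod p))) with hz
      have hzval : φ z = ((ZMod.val z : ℕ) : F) := by
        rw [← hφ, ZMod.natCast_zmod_val]
      exact hnot (ZMod.val z) (by rw [← hzval, ← this])
    have ha : k % p = k' % p := by
      rw [hb] at h
      have := add_right_cancel h
      exact hcast_inj _ _ (Nat.mod_lt _ hp0) (Nat.mod_lt _ hp0) this
    rw [← Nat.div_add_mod k p, ← Nat.div_add_mod k' p, hb, ha]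
  -- surjectivity by counting
  have hsurj : ∀ a : F, ∃ k, k < p * p ∧ dec p θ k = a := by
    let f : Fin (p * p) → F := fun k => dec p θ k
    have hfi : Function.Injective f := by
      intro a b hab
      exact Fin.ext (hinj a b a.2 b.2 hab)
    have hfb : Function.Bijective f := by
      rw [Fintype.bijective_iff_injective_and_card]
      refine ⟨hfi, ?_⟩
      rw [Fintype.card_fin, hF, pow_two]
    intro a
    obtain ⟨k, hk⟩ := hfb.2 a
    exact ⟨k, k.2, hk⟩
  -- Frobenius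
  have hfrobθ : θ ^ p = -θ := by
    rcases hp35 with rfl | rfl
    · have h3 : (3 : F) = 0 := by exact_mod_cast hp
      have : θ ^ 3 = θ ^ 2 * θ := by ring
      rw [this, hθ]
      linear_combination θ * h3
    · have h5 : (5 : F) = 0 := by exact_mod_cast hp
      have : θ ^ 5 = (θ ^ 2) ^ 2 * θ := by ring
      rw [this, hθ]
      linear_combination θ * h5
  have hfrob : ∀ k : ℕ, (dec p θ k) ^ p = dec p θ (cconj p k) := by
    intro k
    rw [dec_cconj hp0 hp]
    unfold dec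
    haveI : Fact p.Prime := ⟨hpp⟩
    haveI : CharP F p := hchar
    rw [add_pow_char, mul_pow, hfrobθ]
    have hnat : ∀ m : ℕ, ((m : F)) ^ p = (m : F) := by
      intro m
      have := map_natCast (frobenius F p) m
      rwa [frobenius_def] at this
    rw [hnat, hnat]
    ring
  exact ⟨⟨θ, hpp, hchar, hp1, hp, hθ, hfrob, hsurj, hinj⟩⟩

theorem u3code_beq (a b : ℕ) : Nat.beq a b = true ↔ a = b :=
  ⟨Nat.eq_of_beq_eq_true, fun h => h ▸ Nat.beq_refl a⟩

/-! ## code vectors and matrices -/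

/-- code vectors -/
structure CV where
  x : ℕ
  y : ℕ
  z : ℕ
  deriving DecidableEq

/-- code matrices, by columns -/
structure CM where
  c0 : CV
  c1 : CV
  c2 : CV
  deriving DecidableEq

/-- validity -/
def CV.ok (p : ℕ) (v : CV) : Prop := v.x < p * p ∧ v.y < p * p ∧ v.z < p * p

/-- validity -/
def CM.ok (p : ℕ) (m : CM) : Prop := m.c0.ok p ∧ m.c1.ok p ∧ m.c2.ok p

def vadd (p : ℕ) (u v : CV) : CV := ⟨cadd p u.x v.x, cadd p u.y v.y, cadd p u.z v.z⟩
def vsmul (p c : ℕ) (v : CV) : CV := ⟨cmul p c v.x, cmul p c v.y, cmul p c v.z⟩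
def mvec (p : ℕ) (m : CM) (v : CV) : CV :=
  vadd p (vadd p (vsmul p v.x m.c0) (vsmul p v.y m.c1)) (vsmul p v.z m.c2)
def mmul (p : ℕ) (m n : CM) : CM := ⟨mvec p m n.c0, mvec p m n.c1, mvec p m n.c2⟩
def cherm (p : ℕ) (u v : CV) : ℕ :=
  cadd p (cadd p (cmul p u.x (cconj p v.x)) (cmul p u.y (cconj p v.y))) (cmul p u.z (cconj p v.z))
def cdet (p : ℕ) (m : CM) : ℕ :=
  cadd p (cadd p (cmul p m.c0.x (cadd p (cmul p m.c1.y m.c2.z) (cneg p (cmul p m.c2.y m.c1.z))))
    (cneg p (cmul p m.c1.x (cadd p (cmul p m.c0.y m.c2.z) (cneg p (cmul p m.c2.y m.c0.z))))))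
    (cmul p m.c2.x (cadd p (cmul p m.c0.y m.c1.z) (cneg p (cmul p m.c1.y m.c0.z))))
/-- conjugate transpose -/
def cadj (p : ℕ) (m : CM) : CM :=
  ⟨⟨cconj p m.c0.x, cconj p m.c1.x, cconj p m.c2.x⟩, ⟨cconj p m.c0.y, cconj p m.c1.y, cconj p m.c2.y⟩,
    ⟨cconj p m.c0.z, cconj p m.c1.z, cconj p m.c2.z⟩⟩
def cone : CM := ⟨⟨1, 0, 0⟩, ⟨0, 1, 0⟩, ⟨0, 0, 1⟩⟩
/-- unitarity of the code matrix -/
def isU (p : ℕ) (m : CM) : Bool :=
  and (and (and (and (and (and (and (and (Nat.beq (cherm p m.c0 m.c0) 1) (Nat.beq (cherm p m.c0 m.c1) 0))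
    (Nat.beq (cherm p m.c0 m.c2) 0)) (Nat.beq (cherm p m.c1 m.c0) 0)) (Nat.beq (cherm p m.c1 m.c1) 1))
    (Nat.beq (cherm p m.c1 m.c2) 0)) (Nat.beq (cherm p m.c2 m.c0) 0)) (Nat.beq (cherm p m.c2 m.c1) 0))
    (Nat.beq (cherm p m.c2 m.c2) 1)
def isSU (p : ℕ) (m : CM) : Bool := and (isU p m) (Nat.beq (cdet p m) 1)

theorem vadd_ok {p : ℕ} (hp0 : 0 < p) (u v : CV) : (vadd p u v).ok p :=
  ⟨cadd_lt hp0 _ _, cadd_lt hp0 _ _, cadd_lt hp0 _ _⟩
theorem vsmul_ok {p : ℕ} (hp0 : 0 < p) (c : ℕ) (v : CV) : (vsmul p c v).ok p :=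
  ⟨cmul_lt hp0 _ _, cmul_lt hp0 _ _, cmul_lt hp0 _ _⟩
theorem mvec_ok {p : ℕ} (hp0 : 0 < p) (m : CM) (v : CV) : (mvec p m v).ok p := vadd_ok hp0 _ _
theorem mmul_ok {p : ℕ} (hp0 : 0 < p) (m n : CM) : (mmul p m n).ok p :=
  ⟨mvec_ok hp0 _ _, mvec_ok hp0 _ _, mvec_ok hp0 _ _⟩
theorem cadj_ok {p : ℕ} (hp0 : 0 < p) (m : CM) : (cadj p m).ok p :=
  ⟨⟨cconj_lt hp0 _, cconj_lt hp0 _, cconj_lt hp0 _⟩, ⟨cconj_lt hp0 _, cconj_lt hp0 _, cconj_lt hp0 _⟩,
    ⟨cconj_lt hp0 _, cconj_lt hp0 _, cconj_lt hp0 _⟩⟩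

namespace Model

variable {p : ℕ}

/-- decoding of vectors -/
def dV (M : Model F p) (v : CV) : Fin 3 → F := ![M.d v.x, M.d v.y, M.d v.z]

/-- decoding of matrices -/
def dM (M : Model F p) (m : CM) : Matrix (Fin 3) (Fin 3) F :=
  Matrix.of ![![M.d m.c0.x, M.d m.c1.x, M.d m.c2.x], ![M.d m.c0.y, M.d m.c1.y, M.d m.c2.y],
    ![M.d m.c0.z, M.d m.c1.z, M.d m.c2.z]]

theorem dV_vadd (M : Model F p) (u v : CV) : M.dV (vadd p u v) = M.dV u + M.dV v := by
  ext i; fin_cases i <;> simp [dV, vadd, d_cadd]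

theorem dV_vsmul (M : Model F p) (c : ℕ) (v : CV) : M.dV (vsmul p c v) = M.d c • M.dV v := by
  ext i; fin_cases i <;> simp [dV, vsmul, d_cmul]

theorem dM_mulVec (M : Model F p) (m : CM) (v : CV) : M.dM m *ᵥ M.dV v = M.dV (mvec p m v) := by
  unfold mvec
  rw [dV_vadd, dV_vadd, dV_vsmul, dV_vsmul, dV_vsmul]
  ext i
  fin_cases i <;> simp [dM, dV, Matrix.mulVec, dotProduct, Fin.sum_univ_three] <;> ring

theorem dM_col (M : Model F p) (m : CM) :
    (fun i => M.dM m i 0) = M.dV m.c0 ∧ (fun i => M.dM m i 1) = M.dV m.c1 ∧ (fun i => M.dM m i 2) = M.dV m.c2 := by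
  refine ⟨?_, ?_, ?_⟩ <;> (ext i; fin_cases i <;> simp [dM, dV])

theorem dM_mul (M : Model F p) (m n : CM) : M.dM m * M.dM n = M.dM (mmul p m n) := by
  have h0 := M.dM_mulVec m n.c0
  have h1 := M.dM_mulVec m n.c1
  have h2 := M.dM_mulVec m n.c2
  ext i j
  fin_cases j
  · have := congrFun h0 i
    simp only [Matrix.mulVec, dotProduct, Fin.sum_univ_three] at this
    rw [Matrix.mul_apply, Fin.sum_univ_three]
    fin_cases i <;> simpa [dM, dV, mmul] using this
  · have := congrFun h1 i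
    simp only [Matrix.mulVec, dotProduct, Fin.sum_univ_three] at this
    rw [Matrix.mul_apply, Fin.sum_univ_three]
    fin_cases i <;> simpa [dM, dV, mmul] using this
  · have := congrFun h2 i
    simp only [Matrix.mulVec, dotProduct, Fin.sum_univ_three] at this
    rw [Matrix.mul_apply, Fin.sum_univ_three]
    fin_cases i <;> simpa [dM, dV, mmul] using this

theorem dM_one (M : Model F p) : M.dM cone = 1 := by
  ext i j
  fin_cases i <;> fin_cases j <;> simp [dM, cone, d_zero, d_one]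

theorem herm_dV (M : Model F p) (u v : CV) : hermForm 3 F p (M.dV u) (M.dV v) = M.d (cherm p u v) := by
  unfold hermForm cherm
  rw [Fin.sum_univ_three, d_cadd, d_cadd, d_cmul, d_cmul, d_cmul, d_cconj, d_cconj, d_cconj]
  simp [dV]

theorem det_dM (M : Model F p) (m : CM) : (M.dM m).det = M.d (cdet p m) := by
  unfold cdet
  rw [Matrix.det_fin_three]
  simp only [d_cadd, d_cmul, d_cneg]
  simp [dM]
  ring

theorem dV_inj (M : Model F p) {u v : CV} (hu : u.ok p) (hv : v.ok p) (h : M.dV u = M.dV v) : u = v := by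
  have h0 := congrFun h 0
  have h1 := congrFun h 1
  have h2 := congrFun h 2
  simp only [dV, Matrix.cons_val_zero, Matrix.cons_val_one, Matrix.cons_val] at h0 h1 h2
  cases u; cases v
  simp only [CV.mk.injEq]
  exact ⟨M.inj _ _ hu.1 hv.1 h0, M.inj _ _ hu.2.1 hv.2.1 h1, M.inj _ _ hu.2.2 hv.2.2 h2⟩

theorem dV_surj (M : Model F p) (w : Fin 3 → F) : ∃ v : CV, v.ok p ∧ M.dV v = w := by
  obtain ⟨a, ha, ha'⟩ := M.surj (w 0)
  obtain ⟨b, hb, hb'⟩ := M.surj (w 1)
  obtain ⟨c, hc, hc'⟩ := M.surj (w 2)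
  refine ⟨⟨a, b, c⟩, ⟨ha, hb, hc⟩, ?_⟩
  ext i; fin_cases i <;> simp [dV, d, ha', hb', hc']

theorem dM_surj (M : Model F p) (A : Matrix (Fin 3) (Fin 3) F) : ∃ m : CM, m.ok p ∧ M.dM m = A := by
  obtain ⟨v0, h0, h0'⟩ := M.dV_surj (fun i => A i 0)
  obtain ⟨v1, h1, h1'⟩ := M.dV_surj (fun i => A i 1)
  obtain ⟨v2, h2, h2'⟩ := M.dV_surj (fun i => A i 2)
  refine ⟨⟨v0, v1, v2⟩, ⟨h0, h1, h2⟩, ?_⟩
  have e00 := congrFun h0' 0
  have e01 := congrFun h0' 1
  have e02 := congrFun h0' 2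
  have e10 := congrFun h1' 0
  have e11 := congrFun h1' 1
  have e12 := congrFun h1' 2
  have e20 := congrFun h2' 0
  have e21 := congrFun h2' 1
  have e22 := congrFun h2' 2
  simp only [dV, Matrix.cons_val_zero, Matrix.cons_val_one, Matrix.cons_val] at e00 e01 e02 e10 e11 e12 e20 e21 e22
  ext i j
  fin_cases j <;> fin_cases i <;> simp [dM, *]

end Model

/-! ## membership in `SU` by codes -/

namespace Model

variable {p : ℕ}

theorem umat_dM (M : Model F p) (m : CM) (i j : Fin 3) :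
    ∑ l, M.dM m l i * (M.dM m l j) ^ p =
      hermForm 3 F p (fun l => M.dM m l i) (fun l => M.dM m l j) := rfl

theorem umat_iff (M : Model F p) (m : CM) :
    Cfsg.Agent.Lib.Helper16.UMat p (M.dM m) ↔ isU p m = true := by
  obtain ⟨e0, e1, e2⟩ := M.dM_col m
  have key : ∀ u v : CV, ∀ k : ℕ, (M.d (cherm p u v) = M.d k ∧ k < p * p) → Nat.beq (cherm p u v) k = true := by
    intro u v k h
    rw [u3code_beq]
    exact M.inj _ _ (cadd_lt M.hp0 _ _) h.2 h.1
  have h1lt : 1 < p * p := by nlinarith [M.hp1]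
  have h0lt : 0 < p * p := by nlinarith [M.hp1]
  constructor
  · intro h
    have h00 := h 0 0
    have h01 := h 0 1
    have h02 := h 0 2
    have h10 := h 1 0
    have h11 := h 1 1
    have h12 := h 1 2
    have h20 := h 2 0
    have h21 := h 2 1
    have h22 := h 2 2
    simp only [umat_dM, e0, e1, e2, herm_dV, Fin.isValue, ↓reduceIte, Fin.reduceEq] at h00 h01 h02 h10 h11 h12 h20 h21 h22
    unfold isU
    simp only [Bool.and_eq_true]
    refine ⟨⟨⟨⟨⟨⟨⟨⟨?_, ?_⟩, ?_⟩, ?_⟩, ?_⟩, ?_⟩, ?_⟩, ?_⟩, ?_⟩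
    · exact key _ _ 1 ⟨h00.trans M.d_one.symm, h1lt⟩
    · exact key _ _ 0 ⟨h01.trans M.d_zero.symm, h0lt⟩
    · exact key _ _ 0 ⟨h02.trans M.d_zero.symm, h0lt⟩
    · exact key _ _ 0 ⟨h10.trans M.d_zero.symm, h0lt⟩
    · exact key _ _ 1 ⟨h11.trans M.d_one.symm, h1lt⟩
    · exact key _ _ 0 ⟨h12.trans M.d_zero.symm, h0lt⟩
    · exact key _ _ 0 ⟨h20.trans M.d_zero.symm, h0lt⟩
    · exact key _ _ 0 ⟨h21.trans M.d_zero.symm, h0lt⟩
    · exact key _ _ 1 ⟨h22.trans M.d_one.symm, h1lt⟩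
  · intro h
    unfold isU at h
    simp only [Bool.and_eq_true, u3code_beq] at h
    obtain ⟨⟨⟨⟨⟨⟨⟨⟨h00, h01⟩, h02⟩, h10⟩, h11⟩, h12⟩, h20⟩, h21⟩, h22⟩ := h
    intro i j
    rw [umat_dM]
    fin_cases i <;> fin_cases j <;>
      simp only [Fin.zero_eta, Fin.mk_one, Fin.reduceFinMk, Fin.isValue, e0, e1, e2, herm_dV, h00, h01, h02, h10,
        h11, h12, h20, h21, h22, d_zero, d_one, ↓reduceIte, Fin.reduceEq]

theorem mem_GU_iff (M : Model F p) (g : GL (Fin 3) F) (m : CM)
    (hg : (g : Matrix (Fin 3) (Fin 3) F) = M.dM m) : g ∈ GU 3 F p ↔ isU p m = true := by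
  haveI := M.hchar
  rw [Cfsg.Agent.Lib.Helper16.mem_GU_iff_UMat (a := 1) M.hpp (pow_one p).symm M.hp0 g, hg]
  exact M.umat_iff m

theorem mem_SL_iff (M : Model F p) (g : GL (Fin 3) F) (m : CM)
    (hg : (g : Matrix (Fin 3) (Fin 3) F) = M.dM m) : g ∈ specialLinear (Fin 3) F ↔ cdet p m = 1 := by
  unfold specialLinear
  rw [MonoidHom.mem_ker, Units.ext_iff, Matrix.GeneralLinearGroup.val_det_apply, hg, det_dM, Units.val_one]
  exact M.d_eq_one (cadd_lt M.hp0 _ _)

theorem mem_SU_iff (M : Model F p) (g : GL (Fin 3) F) (m : CM)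
    (hg : (g : Matrix (Fin 3) (Fin 3) F) = M.dM m) : g ∈ SUg 3 F p ↔ isSU p m = true := by
  unfold isSU
  rw [Bool.and_eq_true, u3code_beq, ← M.mem_GU_iff g m hg, ← M.mem_SL_iff g m hg]
  exact Subgroup.mem_inf

/-- every element of `GL` has a valid code -/
theorem exists_code (M : Model F p) (g : GL (Fin 3) F) :
    ∃ m : CM, m.ok p ∧ (g : Matrix (Fin 3) (Fin 3) F) = M.dM m := by
  obtain ⟨m, hm, h⟩ := M.dM_surj (g : Matrix (Fin 3) (Fin 3) F)
  exact ⟨m, hm, h.symm⟩

/-- a code matrix with non-zero determinant as an element of `GL` -/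
noncomputable def gl (M : Model F p) (m : CM) (h : cdet p m = 1) : GL (Fin 3) F :=
  Matrix.GeneralLinearGroup.mkOfDetNeZero (M.dM m) (by rw [det_dM, h, d_one]; exact one_ne_zero)

theorem gl_val (M : Model F p) (m : CM) (h : cdet p m = 1) :
    ((M.gl m h : GL (Fin 3) F) : Matrix (Fin 3) (Fin 3) F) = M.dM m := rfl

end Model

/-! ## unions of lines, masks, stabilisers -/

/-- a vector as a number -/
def enc (p : ℕ) (v : CV) : ℕ := Nat.add v.x (Nat.mul (Nat.mul p p) (Nat.add v.y (Nat.mul (Nat.mul p p) v.z)))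

theorem enc_def (p : ℕ) (v : CV) : enc p v = v.x + (p * p) * (v.y + (p * p) * v.z) := rfl

/-- bit test with raw `Nat` functions -/
def tbit (mask i : ℕ) : Bool := Nat.beq (Nat.mod (Nat.shiftRight mask i) 2) 1

theorem tbit_eq (mask i : ℕ) : tbit mask i = Nat.testBit mask i := by
  rw [Nat.testBit_eq_decide_div_mod_eq]
  unfold tbit
  have h1 : Nat.shiftRight mask i = mask / 2 ^ i := Nat.shiftRight_eq_div_pow mask i
  rw [h1]
  by_cases h : mask / 2 ^ i % 2 = 1
  · rw [decide_eq_true h]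
    exact (u3code_beq _ _).mpr h
  · rw [decide_eq_false h]
    cases hb : Nat.beq (Nat.mod (mask / 2 ^ i) 2) 1
    · rfl
    · exact absurd ((u3code_beq _ _).mp hb) h

theorem enc_inj {p : ℕ} (hp0 : 0 < p) {u v : CV} (hu : u.ok p) (hv : v.ok p) (h : enc p u = enc p v) :
    u = v := by
  have hN : 0 < p * p := Nat.mul_pos hp0 hp0
  rw [enc_def, enc_def] at h
  have hx : u.x = v.x := by
    have := congrArg (· % (p * p)) h
    simp only [Nat.add_mul_mod_self_left] at this
    rwa [Nat.mod_eq_of_lt hu.1, Nat.mod_eq_of_lt hv.1] at this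
  have h2 : u.y + p * p * u.z = v.y + p * p * v.z := by
    have := congrArg (· / (p * p)) h
    simp only [Nat.add_mul_div_left _ _ hN] at this
    rwa [Nat.div_eq_of_lt hu.1, Nat.div_eq_of_lt hv.1, zero_add, zero_add] at this
  have hy : u.y = v.y := by
    have := congrArg (· % (p * p)) h2
    simp only [Nat.add_mul_mod_self_left] at this
    rwa [Nat.mod_eq_of_lt hu.2.1, Nat.mod_eq_of_lt hv.2.1] at this
  have hz : u.z = v.z := by
    have := congrArg (· / (p * p)) h2
    simp only [Nat.add_mul_div_left _ _ hN] at this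
    rwa [Nat.div_eq_of_lt hu.2.1, Nat.div_eq_of_lt hv.2.1, zero_add, zero_add] at this
  cases u; cases v
  simp only [CV.mk.injEq]
  exact ⟨hx, hy, hz⟩

theorem u3code_testBit_foldl (l : List ℕ) (acc k : ℕ) :
    (l.foldl (fun a j => a ||| (1 <<< j)) acc).testBit k = (acc.testBit k || decide (k ∈ l)) := by
  induction l generalizing acc with
  | nil => simp
  | cons j l ih =>
    rw [List.foldl_cons, ih, Nat.testBit_or, Nat.one_shiftLeft, Nat.testBit_two_pow]
    by_cases hjk : j = k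
    · subst hjk; simp
    · have : ¬ k = j := fun h => hjk h.symm
      simp [hjk, this]

/-- the codes of the vectors on the lines through the representatives -/
def lineCodes (p : ℕ) (reps : List CV) : List ℕ :=
  reps.flatMap (fun r => (List.range (p * p)).map (fun c => enc p (vsmul p c r)))

/-- the bit mask of the vectors on the lines through the representatives -/
def maskOf (p : ℕ) (reps : List CV) : ℕ := (lineCodes p reps).foldl (fun a j => a ||| (1 <<< j)) 0

theorem testBit_maskOf (p : ℕ) (reps : List CV) (k : ℕ) :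
    (maskOf p reps).testBit k = true ↔ ∃ r ∈ reps, ∃ c, c < p * p ∧ k = enc p (vsmul p c r) := by
  unfold maskOf
  rw [u3code_testBit_foldl]
  simp only [Nat.zero_testBit, Bool.false_or, decide_eq_true_eq, lineCodes, List.mem_flatMap, List.mem_map,
    List.mem_range]
  constructor
  · rintro ⟨r, hr, c, hc, rfl⟩; exact ⟨r, hr, c, hc, rfl⟩
  · rintro ⟨r, hr, c, hc, rfl⟩; exact ⟨r, hr, c, hc, rfl⟩

/-- the code matrix maps every representative into the mask -/
def pres (p mask : ℕ) (reps : List CV) (m : CM) : Bool :=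
  reps.all (fun r => tbit mask (enc p (mvec p m r)))

namespace Model

variable {p : ℕ}

/-- the union of the lines spanned by the (decoded) representatives -/
def lines (M : Model F p) (reps : List CV) : Set (Fin 3 → F) := {w | ∃ r ∈ reps, ∃ c : F, w = c • M.dV r}

theorem dM_cadj_apply (M : Model F p) (m : CM) (i j : Fin 3) : M.dM (cadj p m) i j = (M.dM m j i) ^ p := by
  fin_cases i <;> fin_cases j <;> simp [dM, cadj, d_cconj]

theorem dM_cadj_mul (M : Model F p) (m : CM) (h : isU p m = true) : M.dM (cadj p m) * M.dM m = 1 := by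
  have hU := (M.umat_iff m).mpr h
  ext i j
  rw [Matrix.mul_apply]
  have := hU j i
  rw [Matrix.one_apply]
  simp only [dM_cadj_apply]
  rw [show (∑ l, M.dM m l i ^ p * M.dM m l j) = ∑ l, M.dM m l j * M.dM m l i ^ p from
    Finset.sum_congr rfl (fun l _ => mul_comm _ _), this]
  by_cases hij : i = j
  · subst hij; simp
  · have : ¬ j = i := fun h => hij h.symm
    simp [hij, this]

/-- a unitary code matrix preserving the mask (with its adjoint) stabilises the union of lines -/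
theorem mem_stab_of_pres (M : Model F p) (reps : List CV) (mask : ℕ) (hmask : mask = maskOf p reps) (m : CM)
    (hU : isU p m = true) (h1 : pres p mask reps m = true) (h2 : pres p mask reps (cadj p m) = true)
    (g : GL (Fin 3) F) (hg : (g : Matrix (Fin 3) (Fin 3) F) = M.dM m) :
    g ∈ stabilizing (glToMat (Fin 3) F) (M.lines reps) := by
  have hinv := M.dM_cadj_mul m hU
  -- the key step for one matrix
  have step : ∀ n : CM, pres p mask reps n = true → ∀ w, w ∈ M.lines reps → M.dM n *ᵥ w ∈ M.lines reps := by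
    intro n hn w hw
    obtain ⟨r, hr, c, rfl⟩ := hw
    unfold pres at hn
    rw [List.all_eq_true] at hn
    have hb := hn r hr
    rw [tbit_eq, hmask, testBit_maskOf] at hb
    obtain ⟨r', hr', c', hc', he⟩ := hb
    have hv : mvec p n r = vsmul p c' r' := enc_inj M.hp0 (mvec_ok M.hp0 _ _) (vsmul_ok M.hp0 _ _) he
    refine ⟨r', hr', c * M.d c', ?_⟩
    rw [Matrix.mulVec_smul, dM_mulVec, hv, dV_vsmul, smul_smul]
  intro w
  show w ∈ M.lines reps ↔ (g : Matrix (Fin 3) (Fin 3) F) *ᵥ w ∈ M.lines reps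
  rw [hg]
  constructor
  · exact step m h1 w
  · intro hw
    have := step (cadj p m) h2 _ hw
    rwa [Matrix.mulVec_mulVec, hinv, Matrix.one_mulVec] at this

/-- a code matrix moving a representative out of the mask does not stabilise the union of lines -/
theorem not_mem_stab (M : Model F p) (reps : List CV) (mask : ℕ) (hmask : mask = maskOf p reps)
    (m : CM) (r : CV) (hr : r ∈ reps) (h : tbit mask (enc p (mvec p m r)) = false)
    (g : GL (Fin 3) F) (hg : (g : Matrix (Fin 3) (Fin 3) F) = M.dM m) :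
    g ∉ stabilizing (glToMat (Fin 3) F) (M.lines reps) := by
  intro hmem
  have h1 : M.dV r ∈ M.lines reps := ⟨r, hr, 1, by rw [one_smul]⟩
  have h2 := (hmem (M.dV r)).mp h1
  change (g : Matrix (Fin 3) (Fin 3) F) *ᵥ M.dV r ∈ M.lines reps at h2
  rw [hg, dM_mulVec] at h2
  obtain ⟨r', hr', c, hc⟩ := h2
  obtain ⟨k, hk, rfl⟩ := M.surj c
  have hc' : M.dV (mvec p m r) = M.dV (vsmul p k r') := by rw [hc, dV_vsmul]; rfl
  have hv := M.dV_inj (mvec_ok M.hp0 _ _) (vsmul_ok M.hp0 _ _) hc'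
  have : tbit mask (enc p (mvec p m r)) = true := by
    rw [tbit_eq, hmask, testBit_maskOf]
    exact ⟨r', hr', k, hk, by rw [hv]⟩
  rw [h] at this
  exact Bool.false_ne_true this

end Model

end Cfsg.Agent.Lib.Helper16.U3
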