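import Mathlib
import Cfsg.Prelude.Def_GeometricClasses
import Cfsg.Agent.Lib.Helper27.ASCMain
import Cfsg.Agent.Lib.Lead.ASCU.Defs
import Cfsg.Agent.Lib.helper23.ASCUUADJ
import Cfsg.Agent.Lib.Helper19.ASCUUCLIFFS
import Cfsg.Agent.Lib.Helper27.ASCUUES6
import Cfsg.Agent.Lib.Helper18.ASCUUFRAME
import Cfsg.Agent.Lib.Helper21.ASCUUPR1
import Cfsg.Agent.Lib.Helper19.ASCUUPR2
import Cfsg.Agent.Lib.Helper18.ASCUUPR3
import Cfsg.Agent.Lib.Helper26.ASCUUPR5
import Cfsg.Agent.Lib.Helper26.ASCUUQF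
import Cfsg.Agent.Lib.Helper21.ASCUURED
import Cfsg.Agent.Lib.helper8.ASCUUSUBF2
import Cfsg.Agent.Lib.Helper16.ASCUUSUBFA
import Cfsg.Agent.Lib.helper8.ASCUUSUBFO

/-!
# Project U3 (leader: helper16) : S5778, maximal subgroups of `SU_3(q)`.

Generic part: the proof of lead's `ascu_prime` (project ASCU) specialised to `r = 3`; the only ASCU piece that needs
`5 ≤ r` (`upr_sympl_type`) is replaced by a hypothesis `hUPR` (piece UPR63 of project U3).  The Heisenberg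
conclusion keeps the `HeisData`.
-/

set_option autoImplicit false
set_option linter.unusedVariables false

namespace Cfsg.Agent.Lib.Helper16.U3

open Cfsg Cfsg.Geo Cfsg.Agent.Lib.Helper27.ASC Cfsg.Agent.Lib.Lead.ASCU
open scoped MatrixGroups Matrix

variable {F : Type*} [Field F] [Fintype F]

/-- The generic conclusion for `r = 3`. -/
def ConclU3 (F : Type*) [Field F] [Fintype F] (q : ℕ) (H : Subgroup (GL (Fin 3) F)) : Prop :=
  (∃ W : Submodule F (Fin 3 → F), W ≠ ⊥ ∧ IsTotallySingularFor (hermForm 3 F q) W ∧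
    H = subspaceStabilizer W ⊓ SUg 3 F q) ∨
  (∃ W : Submodule F (Fin 3 → F), W ≠ ⊥ ∧ IsNondegenerateOn (hermForm 3 F q) W ∧ 2 * Module.finrank F W < 3 ∧
    H = subspaceStabilizer W ⊓ SUg 3 F q) ∨
  (∃ D : Fin 3 → Submodule F (Fin 3 → F), IsNondegenerateMDecomposition (hermForm 3 F q) 1 D ∧
    H = decompositionStabilizer D ⊓ SUg 3 F q) ∨
  (∃ K : Subalgebra F (Matrix (Fin 3) (Fin 3) F), IsFieldSubalgebra 3 K ∧ IsAdjointClosedFor (hermForm 3 F q) K ∧
    H = subalgebraNormalizer K ⊓ SUg 3 F q) ∨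
  (∃ (F₀ : Subfield F) (ℓ : ℕ) (P : GL (Fin 3) F), ℓ.Prime ∧ Odd ℓ ∧ Fintype.card F = Nat.card F₀ ^ ℓ ∧
    IsFormRationalStructure (hermForm 3 F q) F₀ 1 P ∧ H = subfieldSubgroup F₀ P ⊓ SUg 3 F q) ∨
  (Odd q ∧ ∃ (F₀ : Subfield F) (P : GL (Fin 3) F), Fintype.card F = Nat.card F₀ ^ 2 ∧
    IsFormRationalStructure (hermForm 3 F q) F₀ 1 P ∧ H = subfieldSubgroup F₀ P ⊓ SUg 3 F q) ∨
  (∃ (p e : ℕ) (R : Subgroup (GL (Fin 3) F)) (x y : GL (Fin 3) F) (ω : F), 3 ≠ p ∧ IsMinimalFieldFor 3 p e F ∧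
    HeisData 3 R x y ω ∧ IsSymplecticTypeGroup 3 R ∧
    ActsAbsolutelyIrreducibly (matrixSet R) ∧ R ≤ GU 3 F q ∧ Nat.card R = 3 ^ 3 ∧
    Nat.card (Subgroup.center R) = 3 ∧ H = subgroupNormalizer R ⊓ SUg 3 F q) ∨
  InUnitaryResidualClass H

/-- a subfield of prime index is proper -/
theorem u3_ne_top_of_card_pow {F₁ : Subfield F} {ℓ : ℕ} (hℓ : ℓ.Prime) (h : Fintype.card F = Nat.card F₁ ^ ℓ) :
    F₁ ≠ ⊤ := by
  rintro rfl
  have h1 : Nat.card (⊤ : Subfield F) = Fintype.card F := by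
    rw [← Nat.card_eq_fintype_card]
    exact Nat.card_congr (Subfield.topEquiv (K := F)).toEquiv
  rw [h1] at h
  have h2 : 1 < Fintype.card F := Fintype.one_lt_card
  have h3 : 2 ≤ ℓ := hℓ.two_le
  have : Fintype.card F ^ 1 < Fintype.card F ^ ℓ := Nat.pow_lt_pow_right h2 (by omega)
  rw [pow_one] at this
  omega

theorem u3_normalIn_le_normalizer {n : ℕ} {N H : Subgroup (GL (Fin n) F)} (hN : NormalIn N H) :
    H ≤ subgroupNormalizer N := by
  intro h hh
  unfold subgroupNormalizer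
  rw [Subgroup.mem_normalizer_iff]
  intro x
  constructor
  · intro hx; exact hN.2 h hh x hx
  · intro hx
    have := hN.2 h⁻¹ (H.inv_mem hh) _ hx
    simpa [mul_assoc] using this

/-- the subfield alternatives, from a realisation of `N` over a proper subfield -/
theorem u3_conclu_subfield (q : ℕ) (hF : Fintype.card F = q ^ 2)
    {H N : Subgroup (GL (Fin 3) F)} (hH : IsMaximalIn (SUg 3 F q) H) (hNn : NormalIn N H) (hA : AbsIrr N)
    (F₀ : Subfield F) (h0 : F₀ ≠ ⊤) (hR : RealisableOver F₀ (matrixSet N)) : ConclU3 F q H := by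
  have hr3 : 3 ≤ 3 := le_refl 3
  have hodd : Odd 3 := by decide
  have hHU : H ≤ GU 3 F q := hH.1.le.trans inf_le_left
  have hNU : N ≤ GU 3 F q := hNn.1.trans hHU
  obtain ⟨B, hB0⟩ := hR
  obtain ⟨F₁, ℓ, h01, hℓ, hcard⟩ := exists_prime_index_subfield F₀ h0
  have h1 : F₁ ≠ ⊤ := u3_ne_top_of_card_pow hℓ hcard
  have hB : RealisesOver F₁ B N := realisesOver_mono h01 hB0
  have hle : H ≤ subfieldSubgroup F₁ B⁻¹ := usubfield_explicit hNn hA F₁ B hB
  rcases hℓ.eq_two_or_odd' with h2 | hoddl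
  · subst h2
    obtain ⟨hq, hrat⟩ := uform_rational_two q hF hodd hr3 hNU hA F₁ hcard B hB
    exact Or.inr (Or.inr (Or.inr (Or.inr (Or.inr (Or.inl ⟨hq, F₁, B⁻¹, hcard, hrat,
      max_principle hH hle (upr_subfield q hF hr3 F₁ h1 B⁻¹)⟩)))))
  · obtain ⟨B', hsame, hrat⟩ := uform_rational_odd q hF hNU hA F₁ ℓ hℓ hoddl hcard B hB
    rw [← hsame] at hle
    exact Or.inr (Or.inr (Or.inr (Or.inr (Or.inl ⟨F₁, ℓ, B', hℓ, hoddl, hcard, hrat,
      max_principle hH hle (upr_subfield q hF hr3 F₁ h1 B')⟩))))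

/-- GEN : lead's `ascu_prime` at `r = 3`, with the properness of the Heisenberg normaliser as a hypothesis. -/
theorem u3_generic (q : ℕ) (hF : Fintype.card F = q ^ 2)
    (hUPR : ∀ (p e : ℕ) (R : Subgroup (GL (Fin 3) F)), 3 ≠ p → IsMinimalFieldFor 3 p e F → R ≤ GU 3 F q →
      AbsIrr R → Nat.card R = 3 ^ 3 → Nat.card (Subgroup.center R) = 3 → ¬ SUg 3 F q ≤ subgroupNormalizer R)
    (H : Subgroup (GL (Fin 3) F)) (hH : IsMaximalIn (SUg 3 F q) H) : ConclU3 F q H := by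
  have hr : (3 : ℕ).Prime := by norm_num
  have hr2 : (3 : ℕ) ≠ 2 := by omega
  have hr3 : 3 ≤ 3 := le_refl 3
  have hodd : Odd 3 := by decide
  have hHS : H ≤ SUg 3 F q := hH.1.le
  have hHU : H ≤ GU 3 F q := hHS.trans inf_le_left
  have hHSL : H ≤ specialLinear (Fin 3) F := hHS.trans inf_le_right
  by_cases hirr : Irr H
  swap
  · -- Stage A
    rcases ured_case q hF hodd H hHU hirr with ⟨W, h0, h1, hts, hW⟩ | ⟨W, h0, h1, hnd, hdim, hW⟩
    · exact Or.inl ⟨W, h0, hts, max_principle hH hW (upr_subspace q hF hr3 W h0 h1)⟩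
    · exact Or.inr (Or.inl ⟨W, h0, hnd, hdim, max_principle hH hW (upr_subspace q hF hr3 W h0 h1)⟩)
  by_cases hB : ∃ N : Subgroup (GL (Fin 3) F), NormalIn N H ∧ ¬ Irr N ∧ ¬ N ≤ scalars (Fin 3) F
  · -- Stage B
    obtain ⟨N, hN, h1, h2⟩ := hB
    obtain ⟨D, χ, hD, hHD, hχ, hne⟩ := clifford_lines_strong hr hirr hN h1 h2
    have hND := uframe_of_lines hr hr2 q hF hHU hirr hN D χ hD hHD hχ hne
    exact Or.inr (Or.inr (Or.inl ⟨D, hND, max_principle hH hHD (upr_dec q hF hr3 D hND)⟩))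
  have hB' : ∀ N : Subgroup (GL (Fin 3) F), NormalIn N H → ¬ Irr N → N ≤ scalars (Fin 3) F := by
    intro N hN h1
    by_contra h2
    exact hB ⟨N, hN, h1, h2⟩
  by_cases hC : ∃ N : Subgroup (GL (Fin 3) F), NormalIn N H ∧ Irr N ∧ ¬ AbsIrr N
  · -- Stage C
    obtain ⟨N, hN, h1, h2⟩ := hC
    have hK : IsFieldSubalgebra 3 (centAlg N) := by
      obtain ⟨hc, hi⟩ := schur_comm_inv (by omega) h1
      have hKd : IsFieldSubalgebra (Module.finrank F (centAlg N)) (centAlg N) := ⟨hc, hi, rfl⟩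
      have hdvd := field_finrank_dvd (by omega) _ hKd
      rcases (Nat.dvd_prime hr).mp hdvd with hd | hd
      · exact absurd (absIrr_of_finrank_one h1 hd) h2
      · exact ⟨hc, hi, hd⟩
    have hHK := normalizes_cent hN
    have hadj := ucent_adjoint_closed q hF (hN.1.trans hHU)
    exact Or.inr (Or.inr (Or.inr (Or.inl ⟨centAlg N, hK, hadj,
      max_principle hH hHK (upr_field q hF hr3 (by omega) _ hK)⟩)))
  have hC' : ∀ N : Subgroup (GL (Fin 3) F), NormalIn N H → Irr N → AbsIrr N := by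
    intro N hN h1
    by_contra h2
    exact hC ⟨N, hN, h1, h2⟩
  -- Stage D
  have hD : AllNormalAbsIrr H := fun N hN => by
    by_cases h : Irr N
    · right; exact hC' N hN h
    · left; exact hB' N hN h
  obtain ⟨N, hNmin⟩ := exists_minNonscalar H (irr_not_scalar (by omega) hirr)
  have hNn : NormalIn N H := hNmin.1
  have hNU : N ≤ GU 3 F q := hNn.1.trans hHU
  have hA : AbsIrr N := (hD N hNn).resolve_left hNmin.2.1
  have hcomm := commutator_normalIn hNn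
  rcases hNmin.2.2 _ hcomm (Subgroup.commutator_le_self N) with hab | hperf
  · -- D1 : Heisenberg
    obtain ⟨x, y, ω, hd⟩ := heis_exists hr hr2 hHSL hD hNmin hab
    rcases uheis_field_cases hr hr2 q hF hd hNU with ⟨p, e, hrp, hmin⟩ | ⟨F₀, ℓ, hℓ, hoddl, hcard, hω⟩
    · -- class 6
      obtain ⟨hpg, hexp, hcard, hcen⟩ := heis_group hr hr2 hd
      have hR : IsSymplecticTypeGroup 3 N := by
        refine ⟨hr, hpg, heis_char_cyclic hr hD hNn hcen, ?_⟩
        rw [hexp]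
        norm_num
      have hc3 : Nat.card N = 3 ^ 3 := by rw [hcard]
      exact Or.inr (Or.inr (Or.inr (Or.inr (Or.inr (Or.inr (Or.inl ⟨p, e, N, x, y, ω, hrp, hmin, hd, hR, hA, hNU,
        hc3, hcen,
        max_principle hH (u3_normalIn_le_normalizer hNn) (hUPR p e N hrp hmin hNU hA hc3 hcen)⟩))))))
    · -- subfield
      exact u3_conclu_subfield q hF hH hNn hA F₀ (u3_ne_top_of_card_pow hℓ hcard)
        (heis_realisable hr hd F₀ hω)
  · -- D2 : almost simple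
    by_cases hsub : ∃ F₀ : Subfield F, F₀ ≠ ⊤ ∧ RealisableOver F₀ (matrixSet N)
    · obtain ⟨F₀, h0, hR⟩ := hsub
      exact u3_conclu_subfield q hF hH hNn hA F₀ h0 hR
    · -- residual
      obtain ⟨hsimp, hnab⟩ := perfect_case_simple hr hD hNmin hperf
      refine Or.inr (Or.inr (Or.inr (Or.inr (Or.inr (Or.inr (Or.inr ⟨N, ⟨hNn.1, hNn.2, hperf, hsimp, hnab,
        centralizer_scalar_of hNn hperf hA, hA, ?_⟩, ?_, ?_⟩))))))
      · intro F₀ h0 hR
        exact hsub ⟨F₀, h0, hR⟩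
      · rintro ⟨Q, hQ, hfix⟩
        exact hsub (urealisable_of_quad q hF hodd hNU hA Q hQ hfix)
      · rintro ⟨f, hf, -⟩
        exact no_symplectic_odd hodd f hf

end Cfsg.Agent.Lib.Helper16.U3
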