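import Mathlib
import Cfsg.Prelude.Def_GeometricClasses
import Cfsg.Agent.Lib.Helper16.U3.Gen
import Cfsg.Agent.Lib.Helper20.U3ARITH3
import Cfsg.Agent.Lib.Helper20.U3UPR63
import Cfsg.Agent.Lib.Helper10.U3FRSTD
import Cfsg.Agent.Lib.helper2.U3SYL7
import Cfsg.Agent.Lib.helper8.U3SYMM3
import Cfsg.Agent.Lib.Helper10.U3CSTD
import Cfsg.Agent.Lib.Helper1.U3HEISSTD
import Cfsg.Agent.Lib.Helper10.U3EXPLC3
import Cfsg.Agent.Lib.helper2.U3TOR3
import Cfsg.Agent.Lib.Lead.U3EXPLB3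
import Cfsg.Agent.Lib.Helper16.U3EXPLA5
import Cfsg.Agent.Lib.Helper16.U3EXPLB5
import Cfsg.Agent.Lib.Helper16.U3EXPLC5
import Cfsg.Agent.Lib.Helper16.U3EXPLD5

/-!
# Project U3 (leader: helper16) : assembly of S5778 = maximal subgroups of `SU_3(q)`, `q ≥ 3`.
-/

set_option autoImplicit false
set_option linter.unusedVariables false

namespace Cfsg.Agent.Lib.Helper16.U3

open Cfsg Cfsg.Geo Cfsg.Agent.Lib.Helper27.ASC Cfsg.Agent.Lib.Lead.ASCU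
open scoped MatrixGroups Matrix

variable {F : Type*} [Field F] [Fintype F]

/-- conjugation by an element of `GU` preserves `SU` -/
theorem u3_conj_mem_SU {q : ℕ} {B : GL (Fin 3) F} (hB : B ∈ GU 3 F q) (x : GL (Fin 3) F) :
    B⁻¹ * x * B ∈ SUg 3 F q ↔ x ∈ SUg 3 F q := by
  have hSL : ∀ y : GL (Fin 3) F, B⁻¹ * y * B ∈ specialLinear (Fin 3) F ↔ y ∈ specialLinear (Fin 3) F := by
    intro y
    unfold specialLinear
    rw [MonoidHom.mem_ker, MonoidHom.mem_ker, map_mul, map_mul, map_inv, mul_comm, ← mul_assoc, mul_inv_cancel, one_mul]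
  constructor
  · rintro ⟨h1, h2⟩
    refine ⟨?_, (hSL x).mp h2⟩
    have : x = B * (B⁻¹ * x * B) * B⁻¹ := by group
    rw [this]
    exact (GU 3 F q).mul_mem ((GU 3 F q).mul_mem hB h1) ((GU 3 F q).inv_mem hB)
  · rintro ⟨h1, h2⟩
    exact ⟨(GU 3 F q).mul_mem ((GU 3 F q).mul_mem ((GU 3 F q).inv_mem hB) h1) hB, (hSL x).mpr h2⟩

/-- the common pattern of the non-maximality proofs -/
theorem u3_not_max_of_conj {q : ℕ} {X X₀ L : Subgroup (GL (Fin 3) F)} {B : GL (Fin 3) F} (hB : B ∈ GU 3 F q)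
    (hconj : ConjTo B X X₀) (hL : L ≤ SUg 3 F q) (hne : L ≠ SUg 3 F q) (hle : X₀ ⊓ SUg 3 F q ≤ L)
    (ha : ∃ a ∈ L, a ∉ X₀) : ¬ IsMaximalIn (SUg 3 F q) (X ⊓ SUg 3 F q) := by
  intro hmax
  set L' : Subgroup (GL (Fin 3) F) := L.map (MulAut.conj B).toMonoidHom with hL'
  have memL' : ∀ x, x ∈ L' ↔ B⁻¹ * x * B ∈ L := by
    intro x
    rw [hL', Subgroup.mem_map]
    constructor
    · rintro ⟨y, hy, rfl⟩
      simpa [MulAut.conj_apply, mul_assoc] using hy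
    · intro hx
      exact ⟨B⁻¹ * x * B, hx, by simp [MulAut.conj_apply, mul_assoc]⟩
  have hHL : X ⊓ SUg 3 F q ≤ L' := by
    intro h hh
    rw [memL']
    exact hle ⟨(hconj h).mp hh.1, (u3_conj_mem_SU hB h).mpr hh.2⟩
  have hL'G : L' ≤ SUg 3 F q := by
    intro x hx
    rw [memL'] at hx
    exact (u3_conj_mem_SU hB x).mp (hL hx)
  rcases hmax.2 L' hHL hL'G with h1 | h1
  · obtain ⟨a, haL, haX⟩ := ha
    have ha' : B * a * B⁻¹ ∈ L' := by
      rw [memL']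
      have : B⁻¹ * (B * a * B⁻¹) * B = a := by group
      rw [this]; exact haL
    rw [h1] at ha'
    have h2 := (hconj _).mp ha'.1
    have : B⁻¹ * (B * a * B⁻¹) * B = a := by group
    rw [this] at h2
    exact haX h2
  · apply hne
    apply le_antisymm hL
    intro x hx
    have h2 : B * x * B⁻¹ ∈ L' := by
      rw [h1]
      have h3 := (u3_conj_mem_SU (q := q) ((GU 3 F q).inv_mem hB) x).mpr hx
      simpa using h3
    rw [memL'] at h2
    have : B⁻¹ * (B * x * B⁻¹) * B = x := by group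
    rwa [this] at h2

/-- FRAMENM -/
theorem frame5_not_max (hF : Fintype.card F = 5 ^ 2) (D : Fin 3 → Submodule F (Fin 3 → F))
    (hD : IsNondegenerateMDecomposition (hermForm 3 F 5) 1 D) :
    ¬ IsMaximalIn (SUg 3 F 5) (decompositionStabilizer D ⊓ SUg 3 F 5) := by
  obtain ⟨B, hB, hconj⟩ := frame_std 5 hF D hD
  obtain ⟨L, hL, hne, hle, ha⟩ := explicit_frame5 hF
  exact u3_not_max_of_conj hB hconj hL hne hle ha

/-- ORTHNM -/
theorem orth_not_max (q : ℕ) (hq : q = 3 ∨ q = 5) (hF : Fintype.card F = q ^ 2) (F₀ : Subfield F)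
    (hcard : Fintype.card F = Nat.card F₀ ^ 2) (P : GL (Fin 3) F)
    (hrat : IsFormRationalStructure (hermForm 3 F q) F₀ 1 P) :
    ¬ IsMaximalIn (SUg 3 F q) (subfieldSubgroup F₀ P ⊓ SUg 3 F q) := by
  rcases hq with rfl | rfl
  · obtain ⟨B, hB, hconj⟩ := orth_std 3 (by decide) hF F₀ hcard P hrat
    obtain ⟨L, hL, hne, hle, ha⟩ := explicit_orth3 hF F₀ hcard
    exact u3_not_max_of_conj hB hconj hL hne hle ha
  · obtain ⟨B, hB, hconj⟩ := orth_std 5 (by decide) hF F₀ hcard P hrat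
    obtain ⟨L, hL, hne, hle, ha⟩ := explicit_orth5 hF F₀ hcard
    exact u3_not_max_of_conj hB hconj hL hne hle ha

/-- HEISNM -/
theorem heis5_not_max (hF : Fintype.card F = 5 ^ 2) {N : Subgroup (GL (Fin 3) F)} {x y : GL (Fin 3) F} {ω : F}
    (hd : HeisData 3 N x y ω) (hNU : N ≤ GU 3 F 5) :
    ¬ IsMaximalIn (SUg 3 F 5) (subgroupNormalizer N ⊓ SUg 3 F 5) := by
  obtain ⟨B, hB, hconj⟩ := heis_std 5 hF hd hNU
  obtain ⟨L, hL, hne, hle, ha⟩ := explicit_heis5 hF ω hd.hω1 hd.hωr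
  exact u3_not_max_of_conj hB hconj hL hne hle ha

/-- two elements of the same prime order, one in the cyclic group of the other, generate the same group -/
theorem u3_zpowers_eq_of_mem {G : Type*} [Group G] {x y : G} {p : ℕ} (hp : p.Prime) (hx : orderOf x = p)
    (hy : orderOf y = p) (h : x ∈ Subgroup.zpowers y) : Subgroup.zpowers x = Subgroup.zpowers y := by
  haveI : Fact p.Prime := ⟨hp⟩
  have hle : Subgroup.zpowers x ≤ Subgroup.zpowers y := by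
    rw [Subgroup.zpowers_le]; exact h
  have hcx : Nat.card (Subgroup.zpowers x) = p := by rw [Nat.card_zpowers, hx]
  have hcy : Nat.card (Subgroup.zpowers y) = p := by rw [Nat.card_zpowers, hy]
  haveI : Finite (Subgroup.zpowers y) := Nat.finite_of_card_ne_zero (by rw [hcy]; exact hp.ne_zero)
  exact Subgroup.eq_of_le_of_card_ge hle (by rw [hcx, hcy])

/-- conjugating a normalising element -/
theorem u3_conj_normalises {G : Type*} [Group G] {g h c y : G} (hh : h * c * h⁻¹ ∈ Subgroup.zpowers c)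
    (hy : y ∈ Subgroup.zpowers (g * c * g⁻¹)) :
    (g * h * g⁻¹) * y * (g * h * g⁻¹)⁻¹ ∈ Subgroup.zpowers (g * c * g⁻¹) := by
  obtain ⟨k, rfl⟩ := Subgroup.mem_zpowers_iff.mp hy
  obtain ⟨m, hm⟩ := Subgroup.mem_zpowers_iff.mp hh
  have e1 : g * h * g⁻¹ * (g * c * g⁻¹) ^ k * (g * h * g⁻¹)⁻¹ = g * (h * c * h⁻¹) ^ k * g⁻¹ := by
    rw [conj_zpow, conj_zpow]; group
  rw [e1, ← hm, ← zpow_mul, ← conj_zpow]
  exact Subgroup.zpow_mem_zpowers _ _

/-- the pattern of lead's `su52_field_not_max` -/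
theorem u3_field_pattern {q : ℕ} (K : Subalgebra F (Matrix (Fin 3) (Fin 3) F))
    (htor : ∃ c : GL (Fin 3) F, c ∈ SUg 3 F q ∧ orderOf c = 7 ∧
      ∀ g : GL (Fin 3) F, g ∈ subalgebraNormalizer K → g * c * g⁻¹ ∈ Subgroup.zpowers c)
    (hsyl : ∀ c c' : GL (Fin 3) F, c ∈ SUg 3 F q → c' ∈ SUg 3 F q → orderOf c = 7 → orderOf c' = 7 →
      ∃ g ∈ SUg 3 F q, g * c * g⁻¹ ∈ Subgroup.zpowers c')
    (hexp : ∃ (L : Subgroup (GL (Fin 3) F)) (c₀ : GL (Fin 3) F), L ≤ SUg 3 F q ∧ L ≠ SUg 3 F q ∧ c₀ ∈ L ∧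
      orderOf c₀ = 7 ∧ (∀ g ∈ SUg 3 F q, g * c₀ * g⁻¹ ∈ Subgroup.zpowers c₀ → g ∈ L) ∧
      (∃ a ∈ L, ¬ (a * c₀ * a⁻¹ ∈ Subgroup.zpowers c₀))) :
    ¬ IsMaximalIn (SUg 3 F q) (subalgebraNormalizer K ⊓ SUg 3 F q) := by
  intro hmax
  obtain ⟨c, hcG, hc11, hnorm⟩ := htor
  obtain ⟨L, c₀, hLG, hLne, hc₀L, hc₀11, hNL, a, haL, haN⟩ := hexp
  obtain ⟨g, hgG, hg⟩ := hsyl c c₀ hcG (hLG hc₀L) hc11 hc₀11
  have h11 : (7 : ℕ).Prime := by norm_num
  have hgc11 : orderOf (g * c * g⁻¹) = 7 := by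
    have : g * c * g⁻¹ = MulAut.conj g c := by simp [MulAut.conj_apply]
    rw [this, MulEquiv.orderOf_eq, hc11]
  have hz : Subgroup.zpowers (g * c * g⁻¹) = Subgroup.zpowers c₀ := u3_zpowers_eq_of_mem h11 hgc11 hc₀11 hg
  have key : ∀ h ∈ SUg 3 F q, h * c * h⁻¹ ∈ Subgroup.zpowers c → g * h * g⁻¹ ∈ L := by
    intro h hh hhc
    apply hNL _ ((SUg 3 F q).mul_mem ((SUg 3 F q).mul_mem hgG hh) ((SUg 3 F q).inv_mem hgG))
    rw [← hz]
    exact u3_conj_normalises hhc (by rw [hz]; exact Subgroup.mem_zpowers c₀)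
  set L' : Subgroup (GL (Fin 3) F) := L.map (MulAut.conj g⁻¹).toMonoidHom with hL'
  have memL' : ∀ x, x ∈ L' ↔ g * x * g⁻¹ ∈ L := by
    intro x
    rw [hL', Subgroup.mem_map]
    constructor
    · rintro ⟨y, hy, rfl⟩
      simpa [MulAut.conj_apply, mul_assoc] using hy
    · intro hx
      exact ⟨g * x * g⁻¹, hx, by simp [MulAut.conj_apply, mul_assoc]⟩
  have hHL : subalgebraNormalizer K ⊓ SUg 3 F q ≤ L' := by
    intro h hh
    rw [memL']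
    exact key h hh.2 (hnorm h hh.1)
  have hL'G : L' ≤ SUg 3 F q := by
    intro x hx
    rw [memL'] at hx
    have := hLG hx
    have h2 : x = g⁻¹ * (g * x * g⁻¹) * g := by group
    rw [h2]
    exact (SUg 3 F q).mul_mem ((SUg 3 F q).mul_mem ((SUg 3 F q).inv_mem hgG) this) hgG
  rcases hmax.2 L' hHL hL'G with h1 | h1
  · have ha' : g⁻¹ * a * g ∈ L' := by
      rw [memL']
      have : g * (g⁻¹ * a * g) * g⁻¹ = a := by group
      rw [this]; exact haL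
    rw [h1] at ha'
    have h2 := hnorm _ ha'.1
    apply haN
    have h3 := u3_conj_normalises (g := g) h2 (y := c₀) (by rw [hz]; exact Subgroup.mem_zpowers c₀)
    have e : g * (g⁻¹ * a * g) * g⁻¹ = a := by group
    rw [e, hz] at h3
    exact h3
  · apply hLne
    apply le_antisymm hLG
    intro x hx
    have h2 : g⁻¹ * x * g ∈ L' := by
      rw [h1]
      exact (SUg 3 F q).mul_mem ((SUg 3 F q).mul_mem ((SUg 3 F q).inv_mem hgG) hx) hgG
    rw [memL'] at h2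
    have : g * (g⁻¹ * x * g) * g⁻¹ = x := by group
    rwa [this] at h2

/-- FIELDNM -/
theorem field_not_max (q : ℕ) (hq : q = 3 ∨ q = 5) (hF : Fintype.card F = q ^ 2)
    (K : Subalgebra F (Matrix (Fin 3) (Fin 3) F)) (hK : IsFieldSubalgebra 3 K)
    (hadj : IsAdjointClosedFor (hermForm 3 F q) K) :
    ¬ IsMaximalIn (SUg 3 F q) (subalgebraNormalizer K ⊓ SUg 3 F q) := by
  apply u3_field_pattern K (torus_of_field3 q hq hF K hK hadj)
    (fun c c' hc hc' h h' => sylow7_conj q hq hF (SUg 3 F q) c c' hc hc' h h')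
  rcases hq with rfl | rfl
  · exact explicit_L3 hF
  · exact explicit_L5 hF

theorem u3_one_lt_q {q : ℕ} (hF : Fintype.card F = q ^ 2) : 1 < q := by
  have h2 : 1 < Fintype.card F := Fintype.one_lt_card
  rw [hF] at h2
  by_contra h
  have : q ≤ 1 := by omega
  have : q ^ 2 ≤ 1 ^ 2 := Nat.pow_le_pow_left this 2
  omega

theorem u3_main (q : ℕ) (hF : Fintype.card F = q ^ 2) (hq : 3 ≤ q) (H : Subgroup (Matrix.GeneralLinearGroup (Fin 3) F)) (hH : Cfsg.Geo.IsMaximalIn (Cfsg.GU 3 F q ⊓ Cfsg.Geo.specialLinear (Fin 3) F) H) :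
    (∃ W : Submodule F (Fin 3 → F), W ≠ ⊥ ∧ Cfsg.Geo.IsTotallySingularFor (Cfsg.hermForm 3 F q) W ∧ H = Cfsg.Geo.subspaceStabilizer W ⊓ (Cfsg.GU 3 F q ⊓ Cfsg.Geo.specialLinear (Fin 3) F)) ∨
    (∃ W : Submodule F (Fin 3 → F), W ≠ ⊥ ∧ Cfsg.Geo.IsNondegenerateOn (Cfsg.hermForm 3 F q) W ∧ 2 * Module.finrank F W < 3 ∧ H = Cfsg.Geo.subspaceStabilizer W ⊓ (Cfsg.GU 3 F q ⊓ Cfsg.Geo.specialLinear (Fin 3) F)) ∨
    (q ≠ 5 ∧ ∃ D : Fin 3 → Submodule F (Fin 3 → F), Cfsg.Geo.IsNondegenerateMDecomposition (Cfsg.hermForm 3 F q) 1 D ∧ H = Cfsg.Geo.decompositionStabilizer D ⊓ (Cfsg.GU 3 F q ⊓ Cfsg.Geo.specialLinear (Fin 3) F)) ∨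
    (q ≠ 3 ∧ q ≠ 5 ∧ ∃ K : Subalgebra F (Matrix (Fin 3) (Fin 3) F), Cfsg.Geo.IsFieldSubalgebra 3 K ∧ Cfsg.Geo.IsAdjointClosedFor (Cfsg.hermForm 3 F q) K ∧ H = Cfsg.Geo.subalgebraNormalizer K ⊓ (Cfsg.GU 3 F q ⊓ Cfsg.Geo.specialLinear (Fin 3) F)) ∨
    (∃ (F₀ : Subfield F) (r : ℕ) (P : Matrix.GeneralLinearGroup (Fin 3) F), r.Prime ∧ Odd r ∧ Fintype.card F = Nat.card F₀ ^ r ∧ Cfsg.Geo.IsFormRationalStructure (Cfsg.hermForm 3 F q) F₀ 1 P ∧ H = Cfsg.Geo.subfieldSubgroup F₀ P ⊓ (Cfsg.GU 3 F q ⊓ Cfsg.Geo.specialLinear (Fin 3) F)) ∨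
    (Odd q ∧ 7 ≤ q ∧ ∃ (F₀ : Subfield F) (P : Matrix.GeneralLinearGroup (Fin 3) F), Fintype.card F = Nat.card F₀ ^ 2 ∧ Cfsg.Geo.IsFormRationalStructure (Cfsg.hermForm 3 F q) F₀ 1 P ∧ H = Cfsg.Geo.subfieldSubgroup F₀ P ⊓ (Cfsg.GU 3 F q ⊓ Cfsg.Geo.specialLinear (Fin 3) F)) ∨
    (∃ (p : ℕ) (R : Subgroup (Matrix.GeneralLinearGroup (Fin 3) F)), p.Prime ∧ q = p ∧ p % 3 = 2 ∧ 11 ≤ p ∧ Cfsg.Geo.IsSymplecticTypeGroup 3 R ∧ Cfsg.Geo.ActsAbsolutelyIrreducibly (Cfsg.Geo.matrixSet R) ∧ R ≤ Cfsg.Geo.similarityGroup (Cfsg.hermForm 3 F q) ∧ Nat.card R = 27 ∧ Nat.card (Subgroup.center R) = 3 ∧ H = Cfsg.Geo.subgroupNormalizer R ⊓ (Cfsg.GU 3 F q ⊓ Cfsg.Geo.specialLinear (Fin 3) F)) ∨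
    Cfsg.Geo.InUnitaryResidualClass H := by
  have hq1 : 1 < q := u3_one_lt_q hF
  -- arithmetic of the minimal field
  have harith : ∀ p e : ℕ, 3 ≠ p → IsMinimalFieldFor 3 p e F → q = p ∧ p % 3 = 2 := by
    rintro p e h3 ⟨hp, -, hcard, hdvd, hmin⟩
    exact uarith3 q p e hp (by rw [← hF, hcard]) hq1 h3 hdvd hmin
  have hUPR : ∀ (p e : ℕ) (R : Subgroup (GL (Fin 3) F)), 3 ≠ p → IsMinimalFieldFor 3 p e F → R ≤ GU 3 F q →
      AbsIrr R → Nat.card R = 3 ^ 3 → Nat.card (Subgroup.center R) = 3 → ¬ SUg 3 F q ≤ subgroupNormalizer R := by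
    intro p e R h3 hmin hRU hA hc hz
    obtain ⟨hqp, hp3⟩ := harith p e h3 hmin
    obtain ⟨hp, hchar, -, -, -⟩ := hmin
    have hp5 : 5 ≤ p := by
      by_contra hlt
      have : p = 3 ∨ p = 4 := by omega
      rcases this with h | h
      · exact h3 h.symm
      · rw [h] at hp; exact absurd hp (by decide)
    exact upr_sympl_type3 q hF p hp hchar hp5 R hRU hA hc hz
  rcases u3_generic q hF hUPR H hH with h | h | ⟨D, hD, rfl⟩ | ⟨K, hK, hadj, rfl⟩ | h | ⟨hodd, F₀, P, hcard, hrat, rfl⟩ |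
    ⟨p, e, R, x, y, ω, h3, hmin, hd, hR, hA, hRU, hc, hz, rfl⟩ | h
  · exact Or.inl h
  · exact Or.inr (Or.inl h)
  · refine Or.inr (Or.inr (Or.inl ⟨?_, D, hD, rfl⟩))
    rintro rfl
    exact frame5_not_max hF D hD hH
  · refine Or.inr (Or.inr (Or.inr (Or.inl ⟨?_, ?_, K, hK, hadj, rfl⟩)))
    · rintro rfl
      exact field_not_max 3 (Or.inl rfl) hF K hK hadj hH
    · rintro rfl
      exact field_not_max 5 (Or.inr rfl) hF K hK hadj hH
  · exact Or.inr (Or.inr (Or.inr (Or.inr (Or.inl h))))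
  · refine Or.inr (Or.inr (Or.inr (Or.inr (Or.inr (Or.inl ⟨hodd, ?_, F₀, P, hcard, hrat, rfl⟩)))))
    by_contra hlt
    have h35 : q = 3 ∨ q = 5 := by
      obtain ⟨k, hk⟩ := hodd
      omega
    exact orth_not_max q h35 hF F₀ hcard P hrat hH
  · obtain ⟨hqp, hp3⟩ := harith p e h3 hmin
    obtain ⟨hp, hchar, -, -, -⟩ := hmin
    refine Or.inr (Or.inr (Or.inr (Or.inr (Or.inr (Or.inr (Or.inl ⟨p, R, hp, hqp, hp3, ?_, hR, hA,
      hRU.trans (gu_le_similarity q), by rw [hc]; norm_num, hz, rfl⟩))))))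
    by_contra hlt
    -- p prime, p % 3 = 2, 3 ≤ p < 11 : p = 5
    have hp5 : p = 5 := by
      have hp3' : 3 ≤ p := hqp ▸ hq
      have : p < 11 := by omega
      interval_cases p <;> first | rfl | omega | (exact absurd hp (by decide))
    subst hp5
    subst hqp
    exact heis5_not_max hF hd hRU hH
  · exact Or.inr (Or.inr (Or.inr (Or.inr (Or.inr (Or.inr (Or.inr h))))))

end Cfsg.Agent.Lib.Helper16.U3
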